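import Mathlib

/-!
# Sharply triply transitive actions: basic consequences in odd degree
-/

set_option autoImplicit false

namespace Cfsg.Agent.Lib.H4.S3T

open MulAction

/-- a sharply triply transitive action, in elementwise form -/
structure Sharp3 (G : Type*) [Group G] (X : Type*) [MulAction G X] : Prop where
  t3 : ∀ u v w u' v' w' : X, u ≠ v → u ≠ w → v ≠ w → u' ≠ v' → u' ≠ w' → v' ≠ w' →
    ∃ g : G, g • u = u' ∧ g • v = v' ∧ g • w = w'
  s3 : ∀ (g : G) (u v w : X), u ≠ v → u ≠ w → v ≠ w → g • u = u → g • v = v → g • w = w → g = 1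

variable {G : Type*} [Group G] {X : Type*} [MulAction G X]

namespace Sharp3

variable (h : Sharp3 G X)

include h in
theorem eq_of_agree {g g' : G} {u v w : X} (huv : u ≠ v) (huw : u ≠ w) (hvw : v ≠ w)
    (hu : g • u = g' • u) (hv : g • v = g' • v) (hw : g • w = g' • w) : g = g' := by
  have : g'⁻¹ * g = 1 := by
    apply h.s3 _ u v w huv huw hvw
    · rw [mul_smul, hu, inv_smul_smul]
    · rw [mul_smul, hv, inv_smul_smul]
    · rw [mul_smul, hw, inv_smul_smul]
  rw [inv_mul_eq_one] at this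
  exact this.symm

include h in
/-- in odd degree, an element interchanging two points is an involution -/
theorem sq_eq_one_of_swap [Finite G] [Finite X] (hodd : Odd (Nat.card X)) {z i : X} (hzi : z ≠ i)
    {g : G} (hgz : g • z = i) (hgi : g • i = z) : g * g = 1 := by
  classical
  haveI : Fact (Nat.Prime 2) := ⟨Nat.prime_two⟩
  -- powers of `g` on `z`
  have hpow : ∀ n : ℕ, (Even n → g ^ n • z = z ∧ g ^ n • i = i) ∧
      (Odd n → g ^ n • z = i ∧ g ^ n • i = z) := by
    intro n
    induction n with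
    | zero =>
      refine ⟨fun _ => by simp, fun h1 => ?_⟩
      exact absurd h1 (by decide)
    | succ n ih =>
      constructor
      · intro he
        have ho : Odd n := by
          rcases Nat.even_or_odd n with h1 | h1
          · exact absurd he (Nat.not_even_iff_odd.2 (Even.add_one h1))
          · exact h1
        obtain ⟨h1, h2⟩ := ih.2 ho
        rw [pow_succ', mul_smul, mul_smul, h1, h2]
        exact ⟨hgi, hgz⟩
      · intro ho
        have he : Even n := by
          rcases Nat.even_or_odd n with h1 | h1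
          · exact h1
          · exact absurd ho (Nat.not_odd_iff_even.2 (Odd.add_one h1))
        obtain ⟨h1, h2⟩ := ih.1 he
        rw [pow_succ', mul_smul, mul_smul, h1, h2]
        exact ⟨hgz, hgi⟩
  have hn0 : orderOf g ≠ 0 := (orderOf_pos g).ne'
  obtain ⟨a, m, hm, hn⟩ := Nat.exists_eq_two_pow_mul_odd hn0
  obtain ⟨g₂, hg₂⟩ : ∃ g₂ : G, g₂ = g ^ m := ⟨_, rfl⟩
  have hg₂z : g₂ • z = i := by rw [hg₂]; exact ((hpow m).2 hm).1
  have hg₂i : g₂ • i = z := by rw [hg₂]; exact ((hpow m).2 hm).2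
  have hg₂pow : g₂ ^ (2 ^ a) = 1 := by
    rw [hg₂, ← pow_mul, mul_comm, ← hn, pow_orderOf_eq_one]
  have hpg : IsPGroup 2 (Subgroup.zpowers g₂) := by
    intro x
    obtain ⟨k, hk⟩ := Subgroup.mem_zpowers_iff.1 x.2
    refine ⟨a, ?_⟩
    apply Subtype.ext
    rw [Subgroup.coe_pow, Subgroup.coe_one, ← hk, ← zpow_natCast, ← zpow_mul, mul_comm, zpow_mul,
      zpow_natCast, hg₂pow, one_zpow]
  have hmod := hpg.card_modEq_card_fixedPoints X
  have hfix_iff : ∀ x : X, x ∈ fixedPoints (Subgroup.zpowers g₂) X ↔ g₂ • x = x := by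
    intro x
    constructor
    · intro hx
      exact hx ⟨g₂, Subgroup.mem_zpowers g₂⟩
    · intro hx y
      obtain ⟨k, hk⟩ := Subgroup.mem_zpowers_iff.1 y.2
      show (y : G) • x = x
      rw [← hk]
      exact mem_stabilizer_iff.1 (Subgroup.zpow_mem _ (mem_stabilizer_iff.2 hx) k)
  obtain ⟨F, hF⟩ : ∃ F : Set X, F = fixedPoints (Subgroup.zpowers g₂) X := ⟨_, rfl⟩
  have hFfin : F.Finite := Set.toFinite F
  have hFodd : Odd F.ncard := by
    rw [← Nat.card_coe_set_eq, hF, Nat.odd_iff, ← hmod, ← Nat.odd_iff]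
    exact hodd
  have hg₂ne : g₂ ≠ 1 := by
    intro h1
    rw [h1, one_smul] at hg₂z
    exact hzi hg₂z
  have hF1 : F.ncard = 1 := by
    by_contra hne
    have h3 : 2 < F.ncard := by
      rcases hFodd with ⟨k, hk⟩
      omega
    obtain ⟨c, c', c'', hc, hc', hc'', h1, h2, h3'⟩ := (Set.two_lt_ncard_iff hFfin).1 h3
    rw [hF, hfix_iff] at hc hc' hc''
    exact hg₂ne (h.s3 g₂ c c' c'' h1 h2 h3' hc hc' hc'')
  obtain ⟨c, hc⟩ := Set.ncard_eq_one.1 hF1
  have hcF : c ∈ F := by rw [hc]; exact Set.mem_singleton c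
  have hcfix : g₂ • c = c := by
    rw [hF, hfix_iff] at hcF; exact hcF
  have hgc : g • c = c := by
    have : g • c ∈ F := by
      rw [hF, hfix_iff, hg₂, ← mul_smul, ← pow_succ, pow_succ', mul_smul, ← hg₂, hcfix]
    rw [hc] at this
    exact this
  have hcz : c ≠ z := by
    rintro rfl
    rw [hg₂z] at hcfix
    exact hzi hcfix.symm
  have hci : c ≠ i := by
    rintro rfl
    rw [hg₂i] at hcfix
    exact hzi hcfix
  apply h.s3 _ z i c hzi hcz.symm hci.symm
  · rw [mul_smul, hgz, hgi]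
  · rw [mul_smul, hgi, hgz]
  · rw [mul_smul, hgc, hgc]

include h in
/-- an element interchanging `z` and `i` inverts the stabilizer of both -/
theorem conj_eq_inv [Finite G] [Finite X] (hodd : Odd (Nat.card X)) {z i : X} (hzi : z ≠ i)
    {s : G} (hsz : s • z = i) (hsi : s • i = z) {k : G} (hkz : k • z = z) (hki : k • i = i) :
    s * k * s⁻¹ = k⁻¹ := by
  have h1 : s * s = 1 := h.sq_eq_one_of_swap hodd hzi hsz hsi
  have h2 : (k * s) * (k * s) = 1 := by
    apply h.sq_eq_one_of_swap hodd hzi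
    · rw [mul_smul, hsz, hki]
    · rw [mul_smul, hsi, hkz]
  have hs : s⁻¹ = s := inv_eq_of_mul_eq_one_left h1
  rw [hs]
  have h3 : k * (s * k * s) = 1 := by
    rw [← h2]; group
  exact (inv_eq_of_mul_eq_one_right h3).symm

include h in
/-- the two-point stabilizer is commutative -/
theorem stab_comm [Finite G] [Finite X] (hodd : Odd (Nat.card X)) {z i : X} (hzi : z ≠ i)
    {s : G} (hsz : s • z = i) (hsi : s • i = z) {k k' : G} (hkz : k • z = z) (hki : k • i = i)
    (hkz' : k' • z = z) (hki' : k' • i = i) : k * k' = k' * k := by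
  have h1 := h.conj_eq_inv hodd hzi hsz hsi hkz hki
  have h2 := h.conj_eq_inv hodd hzi hsz hsi hkz' hki'
  have h3 := h.conj_eq_inv hodd hzi hsz hsi (k := k * k') (by rw [mul_smul, hkz', hkz])
    (by rw [mul_smul, hki', hki])
  have h4 : s * (k * k') * s⁻¹ = (s * k * s⁻¹) * (s * k' * s⁻¹) := by group
  rw [h4, h1, h2, mul_inv_rev] at h3
  have h5 : (k⁻¹ * k'⁻¹)⁻¹ = (k'⁻¹ * k⁻¹)⁻¹ := by rw [h3]
  rw [mul_inv_rev, mul_inv_rev, inv_inv, inv_inv] at h5
  exact h5.symm

end Sharp3

end Cfsg.Agent.Lib.H4.S3T
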