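import Mathlib
import Cfsg.Agent.Lib.H4.S3T.Basic
import Cfsg.Agent.S0683
import Cfsg.Agent.S0681

/-!
# The near-field attached to a point stabilizer of a sharply triply transitive group
-/

set_option autoImplicit false

namespace Cfsg.Agent.Lib.H4.S3T

open MulAction

variable {G : Type*} [Group G] {X : Type*} [MulAction G X]

/-- the points other than `i` -/
abbrev Pts (i : X) := {x : X // x ≠ i}

theorem smul_ne_of_stab {i : X} {g : G} (hg : g • i = i) {x : X} (hx : x ≠ i) : g • x ≠ i := by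
  intro h
  apply hx
  have : g • x = g • i := by rw [h, hg]
  exact smul_left_cancel g this

theorem inv_smul_of_stab {i : X} {g : G} (hg : g • i = i) : g⁻¹ • i = i := by
  rw [inv_smul_eq_iff, hg]

/-- the permutation of `Pts i` induced by an element fixing `i` -/
def restr (i : X) (g : stabilizer G i) : Equiv.Perm (Pts i) where
  toFun x := ⟨(g : G) • x.1, smul_ne_of_stab (mem_stabilizer_iff.1 g.2) x.2⟩
  invFun x := ⟨(g : G)⁻¹ • x.1, smul_ne_of_stab (inv_smul_of_stab (mem_stabilizer_iff.1 g.2)) x.2⟩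
  left_inv x := by
    apply Subtype.ext
    show (g : G)⁻¹ • (g : G) • x.1 = x.1
    rw [inv_smul_smul]
  right_inv x := by
    apply Subtype.ext
    show (g : G) • (g : G)⁻¹ • x.1 = x.1
    rw [smul_inv_smul]

theorem restr_apply (i : X) (g : stabilizer G i) (x : Pts i) :
    ((restr i g x : Pts i) : X) = (g : G) • x.1 := rfl

/-- restriction as a homomorphism -/
def restrHom (i : X) : stabilizer G i →* Equiv.Perm (Pts i) where
  toFun := restr i
  map_one' := by
    ext x
    rw [restr_apply]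
    simp
  map_mul' g g' := by
    ext x
    rw [restr_apply, Equiv.Perm.mul_apply, restr_apply, restr_apply, Subgroup.coe_mul, mul_smul]

theorem restrHom_apply (i : X) (g : stabilizer G i) (x : Pts i) :
    ((restrHom i g x : Pts i) : X) = (g : G) • x.1 := rfl

variable [Fintype X] [DecidableEq X]

theorem card_pts (i : X) : Fintype.card (Pts i) = Fintype.card X - 1 := by
  rw [Fintype.card_subtype_compl, Fintype.card_subtype_eq]

theorem exists_nearField (h : Sharp3 G X) (hcard : 3 ≤ Fintype.card X) (i : X) :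
    ∃ _ : Cfsg.NearField (Pts i),
      (∀ g : G, g • i = i → ∃ a b : Pts i, a ≠ 0 ∧ ∀ x : Pts i, g • x.1 = (x * a + b).1) ∧
      (∀ a b : Pts i, a ≠ 0 → ∃ g : G, g • i = i ∧ ∀ x : Pts i, g • x.1 = (x * a + b).1) := by
  classical
  obtain ⟨H, hH⟩ : ∃ H : Subgroup (Equiv.Perm (Pts i)), H = (restrHom (G := G) i).range := ⟨_, rfl⟩
  haveI h2 : MulAction.IsMultiplyPretransitive H (Pts i) 2 := by
    rw [MulAction.is_two_pretransitive_iff]
    intro a b c d hab hcd
    have hab' : a.1 ≠ b.1 := fun e => hab (Subtype.ext e)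
    have hcd' : c.1 ≠ d.1 := fun e => hcd (Subtype.ext e)
    obtain ⟨g, hgi, hga, hgb⟩ := h.t3 i a.1 b.1 i c.1 d.1 a.2.symm b.2.symm hab' c.2.symm d.2.symm
      hcd'
    refine ⟨⟨restrHom i ⟨g, mem_stabilizer_iff.2 hgi⟩, ?_⟩, ?_, ?_⟩
    · rw [hH]; exact ⟨_, rfl⟩
    · apply Subtype.ext
      exact hga
    · apply Subtype.ext
      exact hgb
  have hsharp : ∀ x : Fin 2 ↪ Pts i, MulAction.stabilizer H x = ⊥ := by
    intro x
    rw [eq_bot_iff]
    intro σ hσ
    rw [Subgroup.mem_bot]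
    rw [mem_stabilizer_iff] at hσ
    have h0 : (σ : Equiv.Perm (Pts i)) (x 0) = x 0 := congrArg (fun y : Fin 2 ↪ Pts i => y 0) hσ
    have h1 : (σ : Equiv.Perm (Pts i)) (x 1) = x 1 := congrArg (fun y : Fin 2 ↪ Pts i => y 1) hσ
    have hσH : (σ : Equiv.Perm (Pts i)) ∈ (restrHom (G := G) i).range := by
      rw [← hH]; exact σ.2
    obtain ⟨g, hg⟩ := hσH
    have hx01 : (x 0).1 ≠ (x 1).1 := by
      intro e
      have := x.injective (Subtype.ext e)
      exact absurd this (by decide)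
    have hg1 : (g : G) = 1 := by
      apply h.s3 _ i (x 0).1 (x 1).1 (x 0).2.symm (x 1).2.symm hx01 (mem_stabilizer_iff.1 g.2)
      · rw [← restrHom_apply, hg, h0]
      · rw [← restrHom_apply, hg, h1]
    apply Subtype.ext
    rw [← hg]
    have : g = 1 := Subtype.ext hg1
    rw [this, map_one]
    rfl
  have hc2 : 2 ≤ Fintype.card (Pts i) := by rw [card_pts]; omega
  obtain ⟨nf, hnf⟩ := Cfsg.Agent.S0683.result H hsharp hc2
  letI : Cfsg.NearField (Pts i) := nf
  refine ⟨nf, ?_, ?_⟩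
  · intro g hg
    have hmem : restrHom i ⟨g, mem_stabilizer_iff.2 hg⟩ ∈ H := by rw [hH]; exact ⟨_, rfl⟩
    obtain ⟨a, b, ha, hab⟩ := (hnf _).1 hmem
    refine ⟨a, b, ha, fun x => ?_⟩
    rw [← hab x]
    rfl
  · intro a b ha
    have hmem : ∃ σ : Equiv.Perm (Pts i), σ ∈ H ∧ ∀ x, σ x = x * a + b := by
      obtain ⟨a', h1, h2⟩ := Cfsg.Agent.Lib.H4.NF.exists_inv' ha
      refine ⟨Cfsg.Agent.S0681.aff a a' b h1 h2, ?_, fun x => rfl⟩
      rw [hnf]
      exact ⟨a, b, ha, fun x => rfl⟩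
    obtain ⟨σ, hσH, hσ⟩ := hmem
    rw [hH] at hσH
    obtain ⟨g, rfl⟩ := hσH
    refine ⟨g, mem_stabilizer_iff.1 g.2, fun x => ?_⟩
    rw [← hσ x]
    rfl

end Cfsg.Agent.Lib.H4.S3T
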