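import Mathlib
import Cfsg.Agent.Lib.H4.S3T.NearField
import Cfsg.Agent.S0682

/-!
# The field attached to a sharply triply transitive group of odd degree
-/

set_option autoImplicit false

namespace Cfsg.Agent.Lib.H4.S3T

open MulAction Cfsg.Agent.Lib.H4.NF

/-- a commutative near-field is a commutative ring -/
def commRingOfComm (F : Type*) [Cfsg.NearField F] (hadd : ∀ x y : F, x + y = y + x)
    (hmul : ∀ x y : F, x * y = y * x) : CommRing F :=
  { (inferInstance : AddGroup F), (inferInstance : Monoid F) with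
    add_comm := hadd
    left_distrib := fun a b c => by rw [hmul a (b + c), rdistrib, hmul b a, hmul c a]
    right_distrib := rdistrib
    zero_mul := zero_mul'
    mul_zero := mul_zero'
    mul_comm := hmul }

/-- a commutative near-field is a field -/
noncomputable def fieldOfComm (F : Type*) [Cfsg.NearField F] (hadd : ∀ x y : F, x + y = y + x)
    (hmul : ∀ x y : F, x * y = y * x) : Field F :=
  letI := commRingOfComm F hadd hmul
  IsField.toField
    { exists_pair_ne := ⟨0, 1, Cfsg.NearField.zero_ne_one⟩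
      mul_comm := hmul
      mul_inv_cancel := fun {a} ha => by
        obtain ⟨b, hb, -⟩ := Cfsg.NearField.exists_inv a ha
        exact ⟨b, hb⟩ }

variable {G : Type*} [Group G] {X : Type*} [MulAction G X] [Fintype X] [DecidableEq X]

theorem exists_field [Finite G] (h : Sharp3 G X) (hodd : Odd (Fintype.card X))
    (hcard : 3 ≤ Fintype.card X) (i : X) :
    ∃ _ : Field (Pts i),
      (∀ g : G, g • i = i → ∃ a b : Pts i, a ≠ 0 ∧ ∀ x : Pts i, g • x.1 = (a * x + b).1) ∧
      (∀ a b : Pts i, a ≠ 0 → ∃ g : G, g • i = i ∧ ∀ x : Pts i, g • x.1 = (a * x + b).1) := by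
  classical
  obtain ⟨nf, h1, h2⟩ := exists_nearField h hcard i
  letI : Cfsg.NearField (Pts i) := nf
  obtain ⟨p, j, -, -, -, hadd, -⟩ := Cfsg.Agent.S0682.result (F := Pts i)
  have hodd' : Odd (Nat.card X) := by rw [Nat.card_eq_fintype_card]; exact hodd
  -- the three base points
  have hzi : ((0 : Pts i) : X) ≠ i := (0 : Pts i).2
  have hei : ((1 : Pts i) : X) ≠ i := (1 : Pts i).2
  have hze : ((0 : Pts i) : X) ≠ ((1 : Pts i) : X) := fun e =>
    Cfsg.NearField.zero_ne_one (Subtype.ext e)
  obtain ⟨s, hsz, hsi, -⟩ := h.t3 ((0 : Pts i) : X) i ((1 : Pts i) : X) i ((0 : Pts i) : X)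
    ((1 : Pts i) : X) hzi hze hei.symm hzi.symm hei.symm hze
  have hmul : ∀ x y : Pts i, x * y = y * x := by
    intro a b
    by_cases ha : a = 0
    · rw [ha, zero_mul', mul_zero']
    by_cases hb : b = 0
    · rw [hb, zero_mul', mul_zero']
    obtain ⟨ga, hgai, hga⟩ := h2 a 0 ha
    obtain ⟨gb, hgbi, hgb⟩ := h2 b 0 hb
    have hgaz : ga • ((0 : Pts i) : X) = ((0 : Pts i) : X) := by
      rw [hga, zero_mul', add_zero]
    have hgbz : gb • ((0 : Pts i) : X) = ((0 : Pts i) : X) := by
      rw [hgb, zero_mul', add_zero]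
    have hcomm := h.stab_comm hodd' hzi hsz hsi hgaz hgai hgbz hgbi
    have e1 : (ga * gb) • ((1 : Pts i) : X) = ((b * a : Pts i) : X) := by
      rw [mul_smul, hgb, one_mul, add_zero, hga, add_zero]
    have e2 : (gb * ga) • ((1 : Pts i) : X) = ((a * b : Pts i) : X) := by
      rw [mul_smul, hga, one_mul, add_zero, hgb, add_zero]
    rw [hcomm, e2] at e1
    exact Subtype.ext e1
  letI fld : Field (Pts i) := fieldOfComm (Pts i) hadd hmul
  refine ⟨fld, ?_, ?_⟩
  · intro g hg
    obtain ⟨a, b, ha, hab⟩ := h1 g hg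
    refine ⟨a, b, ha, fun x => ?_⟩
    rw [hab x, hmul x a]
    rfl
  · intro a b ha
    obtain ⟨g, hg, hab⟩ := h2 a b ha
    refine ⟨g, hg, fun x => ?_⟩
    rw [hab x, hmul x a]
    rfl

end Cfsg.Agent.Lib.H4.S3T
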