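import Mathlib
import Cfsg.Agent.Lib.H2.ProjLine

/-!
# The projective line as `Option F`, and the action of affine maps and the inversion
-/

set_option autoImplicit false

namespace Cfsg.Agent.Lib.H4.S3T

open Matrix Projectivization Cfsg.Agent.Lib.H2.ProjLine
open scoped LinearAlgebra.Projectivization MatrixGroups

variable {F : Type*} [Field F]

theorem vec_ne (x : F) : (![x, 1] : Fin 2 → F) ≠ 0 := by
  intro h
  have := congrFun h 1
  simp at this

/-- the point of the projective line attached to an element of `Option F` -/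
noncomputable def pt : Option F → ℙ F (Fin 2 → F)
  | none => Projectivization.mk F ![1, 0] e0_ne
  | some x => Projectivization.mk F ![x, 1] (vec_ne x)

theorem pt_none : pt (none : Option F) = Projectivization.mk F ![1, 0] e0_ne := rfl
theorem pt_some (x : F) : pt (some x) = Projectivization.mk F ![x, 1] (vec_ne x) := rfl

theorem pt_injective : Function.Injective (pt : Option F → ℙ F (Fin 2 → F)) := by
  intro x y hxy
  cases x with
  | none =>
    cases y with
    | none => rfl
    | some y =>
      rw [pt_none, pt_some, mk_eq_mk_iff_D] at hxy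
      simp [D] at hxy
  | some x =>
    cases y with
    | none =>
      rw [pt_none, pt_some, mk_eq_mk_iff_D] at hxy
      simp [D] at hxy
    | some y =>
      rw [pt_some, pt_some, mk_eq_mk_iff_D] at hxy
      simp only [D, Matrix.cons_val_zero, Matrix.cons_val_one, mul_one] at hxy
      congr 1
      linear_combination hxy

theorem pt_surjective : Function.Surjective (pt : Option F → ℙ F (Fin 2 → F)) := by
  intro P
  induction P using Projectivization.ind with
  | _ v hv =>
  by_cases h1 : v 1 = 0
  · refine ⟨none, ?_⟩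
    rw [pt_none, mk_eq_mk_iff_D]
    simp [D, h1]
  · refine ⟨some (v 0 / v 1), ?_⟩
    rw [pt_some, mk_eq_mk_iff_D]
    simp only [D, Matrix.cons_val_zero, Matrix.cons_val_one]
    field_simp
    ring

/-- the matrix of `x ↦ a x + b` -/
noncomputable def affM (a b : F) (ha : a ≠ 0) : GL (Fin 2) F :=
  Matrix.GeneralLinearGroup.mkOfDetNeZero !![a, b; 0, 1] (by
    rw [Matrix.det_fin_two_of]; simpa using ha)

/-- the matrix of `x ↦ 1 / x` -/
noncomputable def swapM : GL (Fin 2) F :=
  Matrix.GeneralLinearGroup.mkOfDetNeZero !![0, 1; 1, 0] (by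
    rw [Matrix.det_fin_two_of]; simp)

theorem affM_smul_none (a b : F) (ha : a ≠ 0) :
    (ProjGenLinGroup.mk (affM a b ha) : PGL(Fin 2, F)) • pt (none : Option F) = pt none := by
  rw [pt_none, PGL.mk_smul_mk, mk_eq_mk_iff_D, GL_smul_def]
  simp [affM, D, Matrix.mulVec, dotProduct, Fin.sum_univ_two]

theorem affM_smul_some (a b : F) (ha : a ≠ 0) (x : F) :
    (ProjGenLinGroup.mk (affM a b ha) : PGL(Fin 2, F)) • pt (some x) = pt (some (a * x + b)) := by
  rw [pt_some, pt_some, PGL.mk_smul_mk, mk_eq_mk_iff_D, GL_smul_def]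
  simp [affM, D, Matrix.mulVec, dotProduct, Fin.sum_univ_two]

theorem swapM_smul_none :
    (ProjGenLinGroup.mk swapM : PGL(Fin 2, F)) • pt (none : Option F) = pt (some 0) := by
  rw [pt_none, pt_some, PGL.mk_smul_mk, mk_eq_mk_iff_D, GL_smul_def]
  simp [swapM, D, Matrix.mulVec, dotProduct, Fin.sum_univ_two]

theorem swapM_smul_zero :
    (ProjGenLinGroup.mk swapM : PGL(Fin 2, F)) • pt (some (0 : F)) = pt none := by
  rw [pt_none, pt_some, PGL.mk_smul_mk, mk_eq_mk_iff_D, GL_smul_def]
  simp [swapM, D, Matrix.mulVec, dotProduct, Fin.sum_univ_two]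

theorem swapM_smul_some {x : F} (hx : x ≠ 0) :
    (ProjGenLinGroup.mk swapM : PGL(Fin 2, F)) • pt (some x) = pt (some x⁻¹) := by
  rw [pt_some, pt_some, PGL.mk_smul_mk, mk_eq_mk_iff_D, GL_smul_def]
  simp [swapM, D, Matrix.mulVec, dotProduct, Fin.sum_univ_two, hx]

end Cfsg.Agent.Lib.H4.S3T
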