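import Mathlib
import Cfsg.Agent.Lib.H4.S3T.Field
import Cfsg.Agent.Lib.H4.S3T.Line

/-!
# A sharply triply transitive group of odd degree is `PGL₂`
-/

set_option autoImplicit false

namespace Cfsg.Agent.Lib.H4.S3T

open MulAction Matrix Projectivization Cfsg.Agent.Lib.H2.ProjLine
open scoped LinearAlgebra.Projectivization MatrixGroups

section abstract

variable {G : Type*} [Group G] {X : Type*} [MulAction G X] {F : Type*} [Field F]

theorem std01 : std F 0 ≠ std F 1 := fun h => absurd ((std F).injective h) (by decide)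
theorem std02 : std F 0 ≠ std F 2 := fun h => absurd ((std F).injective h) (by decide)
theorem std12 : std F 1 ≠ std F 2 := fun h => absurd ((std F).injective h) (by decide)

theorem PGL_ext3 {γ γ' : PGL(Fin 2, F)} (h0 : γ • std F 0 = γ' • std F 0)
    (h1 : γ • std F 1 = γ' • std F 1) (h2 : γ • std F 2 = γ' • std F 2) : γ = γ' := by
  have h : γ'⁻¹ * γ = 1 := by
    apply PGL_eq_one_of_fix _ (std F 0) (std F 1) (std F 2) std01 std02 std12
    · rw [mul_smul, h0, inv_smul_smul]
    · rw [mul_smul, h1, inv_smul_smul]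
    · rw [mul_smul, h2, inv_smul_smul]
  exact (inv_mul_eq_one.1 h).symm

/-- `γ` acts on the line as `g` acts on `X` -/
def Compat (E : X ≃ ℙ F (Fin 2 → F)) (g : G) (γ : PGL(Fin 2, F)) : Prop :=
  ∀ x : X, γ • E x = E (g • x)

theorem Compat.mul {E : X ≃ ℙ F (Fin 2 → F)} {g g' : G} {γ γ' : PGL(Fin 2, F)}
    (h : Compat E g γ) (h' : Compat E g' γ') : Compat E (g * g') (γ * γ') := by
  intro x
  rw [mul_smul, mul_smul, h' x, h (g' • x)]

theorem Compat.inv {E : X ≃ ℙ F (Fin 2 → F)} {g : G} {γ : PGL(Fin 2, F)}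
    (h : Compat E g γ) : Compat E g⁻¹ γ⁻¹ := by
  intro x
  rw [inv_smul_eq_iff, h (g⁻¹ • x), smul_inv_smul]

/-- a sharply triply transitive group all of whose elements act as projectivities is `PGL₂` -/
theorem nonempty_mulEquiv_of_compat (h : Sharp3 G X) (E : X ≃ ℙ F (Fin 2 → F))
    (hc : ∀ g : G, ∃ γ : PGL(Fin 2, F), Compat E g γ) :
    Nonempty (G ≃* PGL(Fin 2, F)) := by
  classical
  choose φ hφ using hc
  have key : ∀ (g : G) (γ : PGL(Fin 2, F)), Compat E g γ → φ g = γ := by
    intro g γ hγ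
    apply PGL_ext3
    · rw [← E.apply_symm_apply (std F 0), hφ g, hγ]
    · rw [← E.apply_symm_apply (std F 1), hφ g, hγ]
    · rw [← E.apply_symm_apply (std F 2), hφ g, hγ]
  have hmul : ∀ g g', φ (g * g') = φ g * φ g' := fun g g' => key _ _ ((hφ g).mul (hφ g'))
  let Φ : G →* PGL(Fin 2, F) := MonoidHom.mk' φ hmul
  have hΦ : ∀ g, Φ g = φ g := fun g => rfl
  have e01 : E.symm (std F 0) ≠ E.symm (std F 1) := fun h => std01 (E.symm.injective h)
  have e02 : E.symm (std F 0) ≠ E.symm (std F 2) := fun h => std02 (E.symm.injective h)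
  have e12 : E.symm (std F 1) ≠ E.symm (std F 2) := fun h => std12 (E.symm.injective h)
  have hinj : Function.Injective Φ := by
    rw [injective_iff_map_eq_one]
    intro g hg
    have hfix : ∀ x : X, g • x = x := by
      intro x
      apply E.injective
      rw [← hφ g x, ← hΦ, hg, one_smul]
    exact h.s3 g _ _ _ e01 e02 e12 (hfix _) (hfix _) (hfix _)
  have hsurj : Function.Surjective Φ := by
    intro γ
    have f01 : E.symm (γ • std F 0) ≠ E.symm (γ • std F 1) := fun h =>
      std01 (smul_left_cancel γ (E.symm.injective h))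
    have f02 : E.symm (γ • std F 0) ≠ E.symm (γ • std F 2) := fun h =>
      std02 (smul_left_cancel γ (E.symm.injective h))
    have f12 : E.symm (γ • std F 1) ≠ E.symm (γ • std F 2) := fun h =>
      std12 (smul_left_cancel γ (E.symm.injective h))
    obtain ⟨g, h0, h1, h2⟩ := h.t3 _ _ _ _ _ _ e01 e02 e12 f01 f02 f12
    refine ⟨g, ?_⟩
    rw [hΦ]
    apply PGL_ext3
    · rw [← E.apply_symm_apply (std F 0), hφ g, h0, E.apply_symm_apply, E.apply_symm_apply]
    · rw [← E.apply_symm_apply (std F 1), hφ g, h1, E.apply_symm_apply, E.apply_symm_apply]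
    · rw [← E.apply_symm_apply (std F 2), hφ g, h2, E.apply_symm_apply, E.apply_symm_apply]
  exact ⟨MulEquiv.ofBijective Φ ⟨hinj, hsurj⟩⟩

end abstract

section line

variable {X : Type*} [DecidableEq X]

/-- the identification of `X` with the projective line over the points other than `i` -/
noncomputable def toLine (i : X) [Field (Pts i)] : X ≃ ℙ (Pts i) (Fin 2 → Pts i) :=
  (Equiv.optionSubtypeNe i).symm.trans (Equiv.ofBijective pt ⟨pt_injective, pt_surjective⟩)

theorem toLine_self (i : X) [Field (Pts i)] : toLine i i = pt none := by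
  unfold toLine
  rw [Equiv.trans_apply, Equiv.optionSubtypeNe_symm_self]
  rfl

theorem toLine_coe (i : X) [Field (Pts i)] (x : Pts i) : toLine i x.1 = pt (some x) := by
  unfold toLine
  rw [Equiv.trans_apply, Equiv.optionSubtypeNe_symm_of_ne x.2]
  rfl

end line

section main

variable {G : Type*} [Group G] {X : Type*} [MulAction G X] [Fintype X] [DecidableEq X]

theorem exists_PGL [Finite G] (h : Sharp3 G X) (hodd : Odd (Fintype.card X))
    (hcard : 3 ≤ Fintype.card X) (i : X) :
    ∃ _ : Field (Pts i), Nonempty (G ≃* PGL(Fin 2, Pts i)) := by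
  classical
  obtain ⟨fld, h1, h2⟩ := exists_field h hodd hcard i
  refine ⟨fld, ?_⟩
  have hodd' : Odd (Nat.card X) := by rw [Nat.card_eq_fintype_card]; exact hodd
  apply nonempty_mulEquiv_of_compat h (toLine i)
  -- the base points
  have hzi : ((0 : Pts i) : X) ≠ i := (0 : Pts i).2
  have hei : ((1 : Pts i) : X) ≠ i := (1 : Pts i).2
  have hze : ((0 : Pts i) : X) ≠ ((1 : Pts i) : X) := fun e =>
    zero_ne_one (Subtype.ext e)
  obtain ⟨s, hsz, hsi, hse⟩ := h.t3 ((0 : Pts i) : X) i ((1 : Pts i) : X) i ((0 : Pts i) : X)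
    ((1 : Pts i) : X) hzi hze hei.symm hzi.symm hei.symm hze
  -- elements of the stabilizer
  have hstab : ∀ g : G, g • i = i → ∃ γ : PGL(Fin 2, Pts i), Compat (toLine i) g γ := by
    intro g hg
    obtain ⟨a, b, ha, hab⟩ := h1 g hg
    refine ⟨ProjGenLinGroup.mk (affM a b ha), fun x => ?_⟩
    by_cases hx : x = i
    · rw [hx, hg, toLine_self, affM_smul_none]
    · have : x = (⟨x, hx⟩ : Pts i).1 := rfl
      rw [this, hab, toLine_coe, toLine_coe, affM_smul_some]
  -- the inversion
  have hsinv : ∀ a : Pts i, a ≠ 0 → s • a.1 = (a⁻¹ : Pts i).1 := by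
    intro a ha
    obtain ⟨ga, hgai, hga⟩ := h2 a 0 ha
    have hgaz : ga • ((0 : Pts i) : X) = ((0 : Pts i) : X) := by
      rw [hga, mul_zero, add_zero]
    have hgae : ga • ((1 : Pts i) : X) = a.1 := by
      rw [hga, mul_one, add_zero]
    have hgainv : ga • (a⁻¹ : Pts i).1 = ((1 : Pts i) : X) := by
      rw [hga, mul_inv_cancel₀ ha, add_zero]
    have hconj := h.conj_eq_inv hodd' hzi hsz hsi hgaz hgai
    have hs1 : s⁻¹ • ((1 : Pts i) : X) = ((1 : Pts i) : X) := by
      rw [inv_smul_eq_iff, hse]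
    calc s • a.1 = s • ga • ((1 : Pts i) : X) := by rw [hgae]
      _ = (s * ga * s⁻¹) • ((1 : Pts i) : X) := by
        rw [mul_smul, mul_smul, hs1]
      _ = ga⁻¹ • ((1 : Pts i) : X) := by rw [hconj]
      _ = (a⁻¹ : Pts i).1 := by rw [inv_smul_eq_iff, hgainv]
  have hs : Compat (toLine i) s (ProjGenLinGroup.mk swapM) := by
    intro x
    by_cases hx : x = i
    · rw [hx, hsi, toLine_self, toLine_coe, swapM_smul_none]
    · obtain ⟨a, rfl⟩ : ∃ a : Pts i, x = a.1 := ⟨⟨x, hx⟩, rfl⟩
      by_cases ha : a = 0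
      · rw [ha, hsz, toLine_self, toLine_coe, swapM_smul_zero]
      · rw [hsinv a ha, toLine_coe, toLine_coe, swapM_smul_some ha]
  intro g
  by_cases hg : g • i = i
  · exact hstab g hg
  · obtain ⟨c, hc⟩ : ∃ c : Pts i, g • i = c.1 := ⟨⟨g • i, hg⟩, rfl⟩
    obtain ⟨t, hti, ht⟩ := h2 1 (-c) one_ne_zero
    have htc : t • c.1 = ((0 : Pts i) : X) := by
      rw [ht, one_mul, add_neg_cancel]
    have hk : (s * t * g) • i = i := by
      rw [mul_smul, mul_smul, hc, htc, hsz]
    obtain ⟨κ, hκ⟩ := hstab _ hk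
    obtain ⟨τ, hτ⟩ := hstab t hti
    have := (hτ.inv.mul hs.inv).mul hκ
    have e : t⁻¹ * s⁻¹ * (s * t * g) = g := by group
    rw [e] at this
    exact ⟨_, this⟩

end main

end Cfsg.Agent.Lib.H4.S3T
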