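import Mathlib
import Cfsg.Agent.Lib.H4.S3T.PGL

/-!
# Sharply triply transitive groups of odd degree: the field in the lowest universe,
and the case of degree `2 ^ k + 1`
-/

set_option autoImplicit false

namespace Cfsg.Agent.Lib.H4.S3T

open MulAction Matrix
open scoped MatrixGroups

/-- transport of sharp triple transitivity along an equivariant bijection -/
theorem Sharp3.of_equiv {G : Type*} [Group G] {X Y : Type*} [MulAction G X] [MulAction G Y]
    (e : Y ≃ X) (he : ∀ (g : G) (y : Y), e (g • y) = g • e y) (h : Sharp3 G X) : Sharp3 G Y := by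
  constructor
  · intro u v w u' v' w' huv huw hvw huv' huw' hvw'
    obtain ⟨g, h1, h2, h3⟩ := h.t3 (e u) (e v) (e w) (e u') (e v') (e w')
      (fun h => huv (e.injective h)) (fun h => huw (e.injective h)) (fun h => hvw (e.injective h))
      (fun h => huv' (e.injective h)) (fun h => huw' (e.injective h))
      (fun h => hvw' (e.injective h))
    refine ⟨g, ?_, ?_, ?_⟩
    · apply e.injective; rw [he, h1]
    · apply e.injective; rw [he, h2]
    · apply e.injective; rw [he, h3]
  · intro g u v w huv huw hvw h1 h2 h3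
    apply h.s3 g (e u) (e v) (e w)
      (fun h => huv (e.injective h)) (fun h => huw (e.injective h)) (fun h => hvw (e.injective h))
    · rw [← he, h1]
    · rw [← he, h2]
    · rw [← he, h3]

/-- a sharply triply transitive group of odd degree is `PGL₂(F)`, with `F : Type` -/
theorem exists_PGL_small {G : Type*} [Group G] [Finite G] {X : Type*} [MulAction G X] [Fintype X]
    (h : Sharp3 G X) (hodd : Odd (Fintype.card X)) (hcard : 3 ≤ Fintype.card X) :
    ∃ (F : Type) (_ : Field F) (_ : Fintype F), Fintype.card F + 1 = Fintype.card X ∧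
      Nonempty (G ≃* PGL(Fin 2, F)) := by
  classical
  obtain ⟨n, hn⟩ : ∃ n : ℕ, n = Fintype.card X := ⟨_, rfl⟩
  have e : Fin n ≃ X := (Fintype.equivFinOfCardEq hn.symm).symm
  let act : MulAction G (Fin n) := Equiv.mulAction G e
  have he : ∀ (g : G) (y : Fin n), e (g • y) = g • e y := by
    intro g y
    rw [Equiv.smul_def, Equiv.apply_symm_apply]
  have hS' : Sharp3 G (Fin n) := Sharp3.of_equiv e he h
  have hodd' : Odd (Fintype.card (Fin n)) := by
    rw [Fintype.card_fin, hn]; exact hodd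
  have hcard' : 3 ≤ Fintype.card (Fin n) := by
    rw [Fintype.card_fin, hn]; exact hcard
  have hn0 : 0 < n := by omega
  obtain ⟨fld, ⟨φ⟩⟩ := exists_PGL hS' hodd' hcard' (⟨0, hn0⟩ : Fin n)
  refine ⟨Pts (⟨0, hn0⟩ : Fin n), fld, inferInstance, ?_, ⟨φ⟩⟩
  rw [Fintype.card_subtype_compl, Fintype.card_fin, Fintype.card_subtype_eq, ← hn]
  omega

/-- over a finite field of characteristic two, `PSL₂ = PGL₂` -/
theorem nonempty_PSL_mulEquiv_PGL {F : Type*} [Field F] [Fintype F] {k : ℕ} (hk : 1 ≤ k)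
    (hF : Fintype.card F = 2 ^ k) :
    Nonempty (Matrix.ProjectiveSpecialLinearGroup (Fin 2) F ≃* PGL(Fin 2, F)) := by
  have hchar : ringChar F = 2 := by
    haveI : CharP F (ringChar F) := ringChar.charP F
    obtain ⟨m, hp, hm⟩ := FiniteField.card F (ringChar F)
    have hdvd : ringChar F ∣ 2 ^ k := by
      rw [← hF, hm]
      exact dvd_pow_self _ m.ne_zero
    exact (Nat.prime_dvd_prime_iff_eq hp Nat.prime_two).1 (hp.dvd_of_dvd_pow hdvd)
  have hroots : ∀ r : Fˣ, ∃ u : Fˣ, u ^ Fintype.card (Fin 2) = r := by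
    intro r
    obtain ⟨a, ha⟩ := FiniteField.isSquare_of_char_two hchar (r : F)
    have ha0 : a ≠ 0 := by
      intro h0
      rw [h0, mul_zero] at ha
      exact r.ne_zero ha
    refine ⟨Units.mk0 a ha0, ?_⟩
    apply Units.ext
    rw [Fintype.card_fin, Units.val_pow_eq_pow_val, Units.val_mk0, ha, pow_two]
  exact ⟨MulEquiv.ofBijective Matrix.ProjectiveSpecialLinearGroup.toPGL
    ⟨Matrix.ProjectiveSpecialLinearGroup.toPGL_injective,
      Matrix.ProjectiveSpecialLinearGroup.toPGL_surj_of_roots hroots⟩⟩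

/-- a sharply triply transitive group of degree `2 ^ k + 1` is `PSL₂(2 ^ k)` -/
theorem exists_PSL_of_two_pow {G : Type*} [Group G] [Finite G] {X : Type*} [MulAction G X]
    [Fintype X] (h : Sharp3 G X) {k : ℕ} (hk : 1 ≤ k) (hX : Fintype.card X = 2 ^ k + 1) :
    ∃ (F : Type) (_ : Field F) (_ : Fintype F), Fintype.card F = 2 ^ k ∧
      Nonempty (G ≃* Matrix.ProjectiveSpecialLinearGroup (Fin 2) F) := by
  have h2k : 2 ≤ 2 ^ k := by
    calc 2 = 2 ^ 1 := by norm_num
      _ ≤ 2 ^ k := Nat.pow_le_pow_right (by norm_num) hk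
  have hodd : Odd (Fintype.card X) := by
    rw [hX]
    exact Even.add_one ((Nat.even_pow' (by omega)).2 even_two)
  obtain ⟨F, fld, fin, hF, ⟨φ⟩⟩ := exists_PGL_small h hodd (by omega)
  have hF' : Fintype.card F = 2 ^ k := by omega
  obtain ⟨ψ⟩ := nonempty_PSL_mulEquiv_PGL hk hF'
  exact ⟨F, fld, fin, hF', ⟨φ.trans ψ.symm⟩⟩

end Cfsg.Agent.Lib.H4.S3T
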